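import Groth.Agent.S9690
import Groth.Agent.S2351
import Groth.Agent.L22.Norm.Affine
import Groth.Agent.L19.NormalSections
import Groth.Prelude.Def_Curv2
import Groth.Prelude.Def_Pi1

/-! # Characterisations of the normalization of an integral scheme -/

set_option autoImplicit false
set_option linter.style.haveILetI false
set_option backward.isDefEq.respectTransparency.types false
set_option backward.isDefEq.respectTransparency false

universe u

open CategoryTheory CategoryTheory.Limits AlgebraicGeometry TopologicalSpace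

noncomputable section

namespace Groth.L05.NormChar

variable {X Y : Scheme.{u}} (f : Y ⟶ X)

/-- An integral morphism of integral schemes has only the generic point over the generic point. -/
theorem eq_genericPoint_of_isIntegralHom [IsIntegral X] [IsIntegral Y] [IsIntegralHom f] {y : Y}
    (hy : f y = genericPoint X) : y = genericPoint Y := by
  obtain ⟨_, ⟨U, hU, rfl⟩, hηU, -⟩ :=
    X.isBasis_affineOpens.exists_subset_of_mem_open (Set.mem_univ (genericPoint X)) isOpen_univ
  have hW : IsAffineOpen (f ⁻¹ᵁ U) := hU.preimage f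
  have hyW : y ∈ f ⁻¹ᵁ U := show f y ∈ U from hy ▸ hηU
  haveI : Nonempty U := ⟨⟨_, hηU⟩⟩
  haveI : Nonempty (f ⁻¹ᵁ U : Y.Opens) := ⟨⟨_, hyW⟩⟩
  letI : Algebra Γ(X, U) Γ(Y, f ⁻¹ᵁ U) := (f.appLE U (f ⁻¹ᵁ U) le_rfl).hom.toAlgebra
  haveI : Algebra.IsIntegral Γ(X, U) Γ(Y, f ⁻¹ᵁ U) := ⟨fun b => by
    have hb : (f.app U).hom.IsIntegralElem b := f.isIntegral_app U hU b
    rw [Scheme.Hom.app_eq_appLE] at hb
    exact hb⟩
  have hη : (hU.primeIdealOf ⟨genericPoint X, hηU⟩).asIdeal = ⊥ := by
    haveI : IsIntegral (U : Scheme.{u}) := inferInstance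
    rw [hU.primeIdealOf_genericPoint, genericPoint_eq_bot_of_affine]
    rfl
  have hc := IsAffineOpen.comap_primeIdealOf_appLE (f := f) U hU (f ⁻¹ᵁ U) hW le_rfl hyW
  have hb : (hW.primeIdealOf ⟨y, hyW⟩).asIdeal = ⊥ := by
    refine Ideal.eq_bot_of_comap_eq_bot (R := Γ(X, U)) ?_
    rw [← hη]
    refine (congrArg PrimeSpectrum.asIdeal hc).trans ?_
    simp only [hy]
  have hgen : genericPoint Y ∈ f ⁻¹ᵁ U :=
    ((genericPoint_spec Y).mem_open_set_iff (f ⁻¹ᵁ U).2).2 ⟨y, trivial, hyW⟩
  have hb' : (hW.primeIdealOf ⟨genericPoint Y, hgen⟩).asIdeal = ⊥ := by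
    rw [hW.primeIdealOf_genericPoint, genericPoint_eq_bot_of_affine]
    rfl
  exact (hW.fromSpec_primeIdealOf ⟨y, hyW⟩).symm.trans
    ((congrArg hW.fromSpec (PrimeSpectrum.ext (hb.trans hb'.symm))).trans
      (hW.fromSpec_primeIdealOf ⟨genericPoint Y, hgen⟩))

/-- A point with an isomorphism on stalks lifts the germ of the base at its image. -/
theorem exists_lift_fromSpecStalk {y : Y} {η : X} (hy : f y = η) [IsIso (f.stalkMap y)] :
    ∃ f₁ : Spec (X.presheaf.stalk η) ⟶ Y, f₁ ≫ f = X.fromSpecStalk η ∧ y ∈ Set.range f₁ := by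
  subst hy
  refine ⟨Spec.map (inv (f.stalkMap y)) ≫ Y.fromSpecStalk y, ?_, ?_⟩
  · rw [Category.assoc, ← Scheme.SpecMap_stalkMap_fromSpecStalk, ← Spec.map_comp_assoc, IsIso.hom_inv_id,
      Spec.map_id, Category.id_comp]
  · haveI : IsIso (Spec.map (inv (f.stalkMap y))) := inferInstance
    obtain ⟨q, hq⟩ := (Spec.map (inv (f.stalkMap y))).surjective (IsLocalRing.closedPoint _)
    exact ⟨q, by rw [Scheme.Hom.comp_apply, hq]; exact Scheme.fromSpecStalk_closedPoint⟩

section

variable (X) [IsIntegral X] [QuasiCompact (X.fromSpecStalk (genericPoint X))]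
  [QuasiSeparated (X.fromSpecStalk (genericPoint X))]

/-- The normalization has the expected stalk at its generic point. -/
theorem isIso_stalkMap_normalizationι :
    ∃ (_ : IsIntegral (Curv2.normalization X)),
      Curv2.normalizationι X (genericPoint (Curv2.normalization X)) = genericPoint X ∧
        IsIso ((Curv2.normalizationι X).stalkMap (genericPoint (Curv2.normalization X))) := by
  obtain ⟨hint, -, -, hgen, hbij⟩ := Groth.Agent.S2351.result X
  refine ⟨hint, hgen, ?_⟩
  have h1 : Function.Bijective ((Curv2.normalization X).residue (genericPoint (Curv2.normalization X))).hom :=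
    ⟨RingHom.injective (R := (Curv2.normalization X).functionField) _, Scheme.residue_surjective _ _⟩
  have h2 : Function.Bijective (X.residue (Curv2.normalizationι X (genericPoint (Curv2.normalization X)))).hom := by
    refine ⟨?_, Scheme.residue_surjective _ _⟩
    generalize hz : Curv2.normalizationι X (genericPoint (Curv2.normalization X)) = z
    obtain rfl : z = genericPoint X := hz.symm.trans hgen
    exact RingHom.injective (R := X.functionField) _
  haveI : IsIso ((Curv2.normalization X).residue (genericPoint (Curv2.normalization X))) :=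
    (ConcreteCategory.isIso_iff_bijective _).mpr h1
  haveI : IsIso (X.residue (Curv2.normalizationι X (genericPoint (Curv2.normalization X)))) :=
    (ConcreteCategory.isIso_iff_bijective _).mpr h2
  haveI : IsIso ((Curv2.normalizationι X).residueFieldMap (genericPoint (Curv2.normalization X))) :=
    (ConcreteCategory.isIso_iff_bijective _).mpr hbij
  have h := Scheme.residue_residueFieldMap (Curv2.normalizationι X) (genericPoint (Curv2.normalization X))
  have : (Curv2.normalizationι X).stalkMap (genericPoint (Curv2.normalization X)) =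
      (X.residue _ ≫ (Curv2.normalizationι X).residueFieldMap (genericPoint (Curv2.normalization X))) ≫
        inv ((Curv2.normalization X).residue (genericPoint (Curv2.normalization X))) := by
    rw [h, Category.assoc, IsIso.hom_inv_id, Category.comp_id]
  rw [this]
  infer_instance

theorem normal_iso {Y Y' : Scheme.{u}} (e : Y ≅ Y') (h : Pi1.IsNormalScheme Y') : Pi1.IsNormalScheme Y := fun y => by
  let t := (asIso (e.hom.stalkMap y)).commRingCatIsoToRingEquiv
  obtain ⟨h1, h2⟩ := h (e.hom y)
  haveI := h1
  haveI := h2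
  exact ⟨t.symm.toMulEquiv.isDomain _, IsIntegrallyClosed.of_equiv t⟩

theorem props_of_iso {Y : Scheme.{u}} (f : Y ⟶ X) (e : Y ≅ Curv2.normalization X)
    (he : e.hom ≫ Curv2.normalizationι X = f) :
    Pi1.IsNormalScheme Y ∧ IsIntegralHom f ∧ ∃ _ : IrreducibleSpace ↥Y,
      f.base ⁻¹' {genericPoint X} = {genericPoint Y} ∧ IsIso (f.stalkMap (genericPoint Y)) := by
  obtain ⟨hint, hgen, hiso⟩ := isIso_stalkMap_normalizationι X
  obtain ⟨-, hnorm, -, -⟩ := Groth.Agent.S2351.result X
  subst he
  haveI : IsIntegralHom (Curv2.normalizationι X) :=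
    inferInstanceAs (IsIntegralHom (X.fromSpecStalk (genericPoint X)).fromNormalization)
  haveI : Nonempty Y := ⟨e.inv (genericPoint (Curv2.normalization X))⟩
  haveI : IsIntegral Y := isIntegral_of_isOpenImmersion e.hom
  have hgenY : e.hom (genericPoint Y) = genericPoint (Curv2.normalization X) :=
    genericPoint_eq_of_isOpenImmersion e.hom
  refine ⟨normal_iso e hnorm, inferInstance, inferInstance, Set.ext fun y => ⟨fun hy => ?_, ?_⟩, ?_⟩
  · exact eq_genericPoint_of_isIntegralHom (e.hom ≫ Curv2.normalizationι X) hy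
  · rintro rfl
    show Curv2.normalizationι X (e.hom (genericPoint Y)) = genericPoint X
    rw [hgenY, hgen]
  · rw [Scheme.Hom.stalkMap_comp]
    haveI : IsIso ((Curv2.normalizationι X).stalkMap (e.hom (genericPoint Y))) := by
      generalize hz : e.hom (genericPoint Y) = z
      obtain rfl : z = genericPoint (Curv2.normalization X) := hz.symm.trans hgenY
      exact hiso
    infer_instance

theorem iso_of_props {Y : Scheme.{u}} (f : Y ⟶ X) (hY : Pi1.IsNormalScheme Y) [IsIntegralHom f]
    [IrreducibleSpace ↥Y] (hfib : f.base ⁻¹' {genericPoint X} = {genericPoint Y})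
    [IsIso (f.stalkMap (genericPoint Y))] :
    ∃ e : Y ≅ Curv2.normalization X, e.hom ≫ Curv2.normalizationι X = f := by
  haveI : ∀ y : Y, _root_.IsReduced (Y.presheaf.stalk y) := fun y => by
    haveI := (hY y).1
    infer_instance
  haveI : AlgebraicGeometry.IsReduced Y := isReduced_of_isReduced_stalk Y
  haveI : IsIntegral Y := isIntegral_of_irreducibleSpace_of_isReduced _
  have hgen : f (genericPoint Y) = genericPoint X := hfib.ge rfl
  obtain ⟨hint, hgenN, -⟩ := isIso_stalkMap_normalizationι X
  obtain ⟨-, hnorm, -, -⟩ := Groth.Agent.S2351.result X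
  have huniq : ∀ {Z : Scheme.{u}} [IsIntegral Z] (g : Z ⟶ X), g (genericPoint Z) = genericPoint X →
      Pi1.IsNormalScheme Z → ∃! h : Z ⟶ Curv2.normalization X, h ≫ Curv2.normalizationι X = g :=
    fun {Z} _ g hg hZ => Groth.Agent.S9690.result X g hZ fun z hz => by
      have : IsGenericPoint z Set.univ := by
        rw [irreducibleComponents_eq_singleton, Set.mem_singleton_iff] at hz
        exact hz
      rw [this.eq (genericPoint_spec Z)]
      exact hg
  obtain ⟨h, hh, -⟩ := huniq f hgen hY
  obtain ⟨f₁, hf₁, q, hq⟩ := exists_lift_fromSpecStalk f (η := genericPoint X) hgen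
  let g : Curv2.normalization X ⟶ Y :=
    (X.fromSpecStalk (genericPoint X)).normalizationDesc f₁ f hf₁.symm
  have hg : g ≫ f = Curv2.normalizationι X :=
    (X.fromSpecStalk (genericPoint X)).normalizationDesc_comp f₁ f hf₁.symm
  have h1 : g ≫ h = 𝟙 _ :=
    (huniq (Curv2.normalizationι X) hgenN hnorm).unique (by rw [Category.assoc, hh, hg]) (Category.id_comp _)
  haveI : IsDominant g := by
    refine ⟨?_⟩
    have hmem : genericPoint Y ∈ Set.range g := by
      refine ⟨(X.fromSpecStalk (genericPoint X)).toNormalization q, ?_⟩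
      show g ((X.fromSpecStalk (genericPoint X)).toNormalization q) = genericPoint Y
      rw [← hq, ← (X.fromSpecStalk (genericPoint X)).toNormalization_normalizationDesc f₁ f hf₁.symm]
      rfl
    refine dense_iff_closure_eq.mpr (Set.eq_univ_of_univ_subset ?_)
    rw [← (genericPoint_spec Y).def]
    exact closure_mono (Set.singleton_subset_iff.mpr hmem)
  have h2 : h ≫ g = 𝟙 Y :=
    ext_of_isDominant_of_isSeparated f (by rw [Category.assoc, hg, hh, Category.id_comp]) g
      (by rw [reassoc_of% h1, Category.comp_id])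
  exact ⟨⟨h, g, h2, h1⟩, hh⟩

/-- The normalization is an isomorphism over an open where the scheme is normal. -/
theorem isIso_restrict_of_normal {U : X.Opens} (hU : IsAffineOpen U) (hne : (U : Set X).Nonempty)
    (hN : ∀ x ∈ U, IsIntegrallyClosed (X.presheaf.stalk x)) : IsIso (Curv2.normalizationι X ∣_ U) := by
  haveI : IsIntegralHom (Curv2.normalizationι X) :=
    inferInstanceAs (IsIntegralHom (X.fromSpecStalk (genericPoint X)).fromNormalization)
  haveI : Nonempty U := hne.to_subtype
  letI : Algebra Γ(X, U) Γ(Curv2.normalization X, Curv2.normalizationι X ⁻¹ᵁ U) :=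
    ((Curv2.normalizationι X).app U).hom.toAlgebra
  obtain ⟨κ, hκ⟩ := Groth.L22.Norm.exists_isIntegralClosure X hU hne
  letI := κ.toAlgebra
  obtain ⟨ht, hic⟩ := hκ
  haveI := ht
  haveI := hic
  haveI : IsFractionRing Γ(X, U) X.functionField := functionField_isFractionRing_of_isAffineOpen X U hU
  haveI : IsIntegrallyClosed Γ((U : Scheme.{u}), ⊤) := by
    haveI : Nonempty (⊤ : (U : Scheme.{u}).Opens) := ⟨⟨⟨_, hne.choose_spec⟩, trivial⟩⟩
    refine Groth.L19.NormalSec.isIntegrallyClosed_sections (fun u => ?_) ⊤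
    haveI := hN _ u.2
    exact IsIntegrallyClosed.of_equiv (U.stalkIso u).commRingCatIsoToRingEquiv.symm
  haveI : IsIntegrallyClosed Γ(X, U) := IsIntegrallyClosed.of_equiv U.topIso.commRingCatIsoToRingEquiv
  rw [isIso_morphismRestrict_iff_isIso_app _ hU, ConcreteCategory.isIso_iff_bijective]
  refine ⟨fun a b hab => ?_, fun b => ?_⟩
  · refine IsFractionRing.injective Γ(X, U) X.functionField ?_
    rw [IsScalarTower.algebraMap_apply Γ(X, U) Γ(Curv2.normalization X, Curv2.normalizationι X ⁻¹ᵁ U),
      IsScalarTower.algebraMap_apply Γ(X, U) Γ(Curv2.normalization X, Curv2.normalizationι X ⁻¹ᵁ U) X.functionField b]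
    exact congrArg _ hab
  · have hb : IsIntegral Γ(X, U) (κ b) := (IsIntegralClosure.isIntegral_iff (A := Γ(Curv2.normalization X,
      Curv2.normalizationι X ⁻¹ᵁ U))).mpr ⟨b, rfl⟩
    obtain ⟨a, ha⟩ := (IsIntegrallyClosed.isIntegral_iff).mp hb
    refine ⟨a, IsIntegralClosure.algebraMap_injective _ Γ(X, U) X.functionField ?_⟩
    exact (IsScalarTower.algebraMap_apply _ _ _ a).symm.trans ha

end

end Groth.L05.NormChar
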